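import Cfsg.Agent.H661.SC.NonPrin
import Cfsg.Agent.H492.IMJ1
import Cfsg.Agent.H492.IMJ3
import Cfsg.Agent.H492.IMJ4
import Cfsg.Agent.H654.FourRows
import Cfsg.Agent.H547.OB.J3
import Cfsg.Agent.H590.NB.J4
import Cfsg.Agent.H894.J4Two
import Cfsg.Agent.H852.IMJTwo
import Cfsg.Agent.H417.JThreeDeg
import Cfsg.Agent.H34.SporJ2
import Cfsg.Agent.H305.OddJ3
import Cfsg.Agent.H715.Fpr.J3
import Cfsg.Agent.H898.J3Cent
import Cfsg.Agent.NotCT.Orders

/-!
# S4526, the rows of the Janko groups (helper567)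

`IMC p S` for `S = J₁, J₂, J₃, J₄` and all primes `p` dividing `|S|`.

* `J₁` : the row of S5009 for `p = 2`, `p³ ∤ |J₁|` for odd `p`;
* `J₂` : `p = 2` as for `J₁`, the degree 63 for `p = 3`;
* `J₃` : a nonprincipal 2-block and `NoCent 2`, the degree 3078 for `p = 3`;
* `J₄` : the degree `2²¹ 3³ 5 7`, and a degree divisible by `11³`.
-/

set_option autoImplicit false

namespace Cfsg.Agent.H567.MN

open Subgroup Cfsg
open Cfsg.Agent.H661.SC
open Cfsg.Agent.H625.SylConst (IMC)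

universe u

/-- A degree divisible by `p ^ a`, `a > 0`, and `p ^ (a + 2)` does not divide `|G|`. -/
theorem imc_of_dvd {p : ℕ} [hp : Fact p.Prime] {G : Type u} [Group G] [Finite G] {a : ℕ} (ha : a ≠ 0)
    (h : ¬ p ^ (a + 2) ∣ Nat.card G) (χ : IrrCharacter G) (hd : p ^ a ∣ charDegree (χ : G → ℂ)) : IMC p G := by
  refine imc_of_pow χ ((dvd_pow_self p ha).trans hd) ((pow_dvd_pow p ?_).trans hd)
  have h0 : Nat.card G ≠ 0 := Nat.card_pos.ne'
  have h1 : (Nat.card G).factorization p < a + 2 := by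
    by_contra hcon
    exact h ((hp.out.pow_dvd_iff_le_factorization h0).2 (not_lt.1 hcon))
  omega

theorem fac_le {p n k : ℕ} (hp : p.Prime) (hn : n ≠ 0) (h : ¬ p ^ (k + 1) ∣ n) : n.factorization p ≤ k := by
  by_contra hcon
  exact h ((hp.pow_dvd_iff_le_factorization hn).2 (by omega))

theorem imc_j1 {S : Type u} [Group S] [Finite S] (h : Spor.IsoJ1 S) (_hs : IsSimpleGroup S) {p : ℕ}
    [hp : Fact p.Prime] (hd : p ∣ Nat.card S) : IMC p S := by
  have hn := NotCT.Orders.j1 h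
  by_cases h2 : p = 2
  · subst h2
    exact imc_of_loc (H654.FourRows.loc_J1 h)
  · refine imc_of_IM ?_ (H492.IMJ1.im_j1 h hd)
    rw [hn]
    intro h3
    have hdvd : p ∣ 175560 := (dvd_pow_self p (by norm_num)).trans h3
    have hpp := hp.out
    rw [show 175560 = 2 ^ 3 * (3 * (5 * (7 * (11 * 19)))) by norm_num, hpp.dvd_mul, hpp.dvd_mul, hpp.dvd_mul,
      hpp.dvd_mul, hpp.dvd_mul] at hdvd
    rcases hdvd with hd | hd | hd | hd | hd | hd
    · exact h2 ((Nat.prime_dvd_prime_iff_eq hpp Nat.prime_two).1 (hpp.dvd_of_dvd_pow hd))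
    all_goals
      rw [(Nat.prime_dvd_prime_iff_eq hpp (by norm_num)).1 hd] at h3
      norm_num at h3

theorem imc_j2 {S : Type u} [Group S] [Finite S] (h : Spor.IsoJ2 S) (_hs : IsSimpleGroup S) {p : ℕ}
    [hp : Fact p.Prime] (hd : p ∣ Nat.card S) : IMC p S := by
  have hn := NotCT.Orders.j2 h
  by_cases h2 : p = 2
  · subst h2
    exact imc_of_loc (H654.FourRows.loc_J2 h)
  by_cases h3 : p = 3
  · subst h3
    obtain ⟨e⟩ := id h
    have : Finite Spor.J2 := Finite.of_equiv _ e.toEquiv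
    obtain ⟨χ, hχ⟩ := H34.SporJ2.exists_63
    refine IMC.of_equiv e (imc_of_dvd (a := 2) (by norm_num) ?_ χ ?_)
    · rw [← Nat.card_congr e.toEquiv, hn]
      norm_num
    · rw [hχ]
      norm_num
  · refine imc_of_IM ?_ (H852.IMJTwo.im_j2 h hd)
    rw [hn]
    intro hd3
    have hdvd : p ∣ 604800 := (dvd_pow_self p (by norm_num)).trans hd3
    have hpp := hp.out
    rw [show 604800 = 2 ^ 7 * (3 ^ 3 * (5 ^ 2 * 7)) by norm_num, hpp.dvd_mul, hpp.dvd_mul, hpp.dvd_mul] at hdvd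
    rcases hdvd with hd | hd | hd | hd
    · exact h2 ((Nat.prime_dvd_prime_iff_eq hpp Nat.prime_two).1 (hpp.dvd_of_dvd_pow hd))
    · exact h3 ((Nat.prime_dvd_prime_iff_eq hpp Nat.prime_three).1 (hpp.dvd_of_dvd_pow hd))
    · rw [(Nat.prime_dvd_prime_iff_eq hpp (by norm_num)).1 (hpp.dvd_of_dvd_pow hd)] at hd3
      norm_num at hd3
    · rw [(Nat.prime_dvd_prime_iff_eq hpp (by norm_num)).1 hd] at hd3
      norm_num at hd3

theorem noCent_j3 {S : Type} [Group S] [Finite S] (h : Spor.IsoJ3 S) : NoCent 2 S := by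
  have hn := NotCT.Orders.j3 h
  have : Fact (Nat.Prime 2) := ⟨Nat.prime_two⟩
  have h7 : 7 ≤ (Nat.card S).factorization 2 :=
    (Nat.prime_two.pow_dvd_iff_le_factorization Nat.card_pos.ne').1 (by rw [hn]; norm_num)
  refine noCent_of_elements fun ℓ x hℓ hℓ2 hx hle => ?_
  have hlt : ¬ 2 ^ 7 ∣ Nat.card (centralizer ({x} : Set S)) := by
    rcases H898.J3Cent.prime_dvd_card hℓ (by rw [← hn, ← hx]; exact orderOf_dvd_natCard x) with
      rfl | rfl | rfl | rfl | rfl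
    · exact absurd rfl hℓ2
    · intro hd
      rcases H305.OddJ3.cent_three h hx with h1 | h1
      · rw [h1] at hd
        norm_num at hd
      · have := hd.trans h1
        norm_num at this
    · intro hd
      exact H715.Fpr.J3.not_four h hx ((by norm_num : (4 : ℕ) ∣ 2 ^ 7).trans hd)
    · rw [(H898.J3Cent.seventeen h hx).1]
      norm_num
    · rw [H898.J3Cent.card_nineteen h hx]
      norm_num
  exact hlt ((Nat.prime_two.pow_dvd_iff_le_factorization Nat.card_pos.ne').2 (h7.trans hle))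

theorem imc_j3 {S : Type u} [Group S] [Finite S] (h : Spor.IsoJ3 S) (_hs : IsSimpleGroup S) {p : ℕ}
    [hp : Fact p.Prime] (hd : p ∣ Nat.card S) : IMC p S := by
  have hn := NotCT.Orders.j3 h
  rcases H898.J3Cent.prime_dvd_card hp.out (hn ▸ hd) with rfl | rfl | rfl | rfl | rfl
  · obtain ⟨F, i1, i2, ω, hF, hω, ⟨e⟩⟩ := id h
    have : Finite (Spor.J3 F ω) := Finite.of_equiv _ e.toEquiv
    have h' : Spor.IsoJ3 (Spor.J3 F ω) := ⟨F, i1, i2, ω, hF, hω, ⟨MulEquiv.refl _⟩⟩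
    exact IMC.of_equiv e (imc_of_NB2 (H547.OB.J3.nb_j3 h') (noCent_j3 h'))
  · obtain ⟨⟨χ, hχ⟩, -⟩ := H417.JThreeDeg.max_degree h
    have h1 : charDegree (χ : S → ℂ) = 3078 := hχ
    refine imc_of_dvd (a := 4) (by norm_num) (by rw [hn]; norm_num) χ ?_
    rw [h1]
    norm_num
  all_goals exact imc_of_IM (by rw [hn]; norm_num) (H492.IMJ3.im_j3 h hd)

theorem imc_j4 {S : Type u} [Group S] [Finite S] (h : Spor.IsoJ4 S) (_hs : IsSimpleGroup S) {p : ℕ}
    [hp : Fact p.Prime] (hd : p ∣ Nat.card S) : IMC p S := by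
  have hn := NotCT.Orders.j4 h
  obtain ⟨e⟩ := id h
  have : Finite Spor.J4 := Finite.of_equiv _ e.toEquiv
  have hJ : Nat.card Spor.J4 = 86775571046077562880 := by rw [← Nat.card_congr e.toEquiv, hn]
  by_cases h2 : p = 2
  · subst h2
    obtain ⟨χ, hχ⟩ := H894.J4Two.exists_degree
    refine IMC.of_equiv e (imc_of_dvd (a := 21) (by norm_num) (by rw [hJ]; norm_num) χ ?_)
    rw [hχ]
    norm_num
  by_cases h3 : p = 3
  · subst h3
    obtain ⟨χ, hχ⟩ := H894.J4Two.exists_degree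
    refine IMC.of_equiv e (imc_of_dvd (a := 3) (by norm_num) (by rw [hJ]; norm_num) χ ?_)
    rw [hχ]
    norm_num
  by_cases h11 : p = 11
  · subst h11
    obtain ⟨χ, hχ⟩ := H590.NB.J4.cl (m := 1331) (by simp)
    refine IMC.of_equiv e (imc_of_dvd (a := 3) (by norm_num) (by rw [hJ]; norm_num) χ ?_)
    exact dvd_trans (by norm_num) hχ
  refine imc_of_IM ?_ (H492.IMJ4.im_j4 h hd)
  rw [hn]
  intro hd3
  have hdvd : p ∣ 86775571046077562880 := (dvd_pow_self p (by norm_num)).trans hd3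
  have hpp := hp.out
  rw [show 86775571046077562880 = 2 ^ 21 * (3 ^ 3 * (11 ^ 3 * (5 * (7 * (23 * (29 * (31 * (37 * 43)))))))) by norm_num,
    hpp.dvd_mul, hpp.dvd_mul, hpp.dvd_mul, hpp.dvd_mul, hpp.dvd_mul, hpp.dvd_mul, hpp.dvd_mul, hpp.dvd_mul,
    hpp.dvd_mul] at hdvd
  rcases hdvd with hd | hd | hd | hd | hd | hd | hd | hd | hd | hd
  · exact h2 ((Nat.prime_dvd_prime_iff_eq hpp Nat.prime_two).1 (hpp.dvd_of_dvd_pow hd))
  · exact h3 ((Nat.prime_dvd_prime_iff_eq hpp Nat.prime_three).1 (hpp.dvd_of_dvd_pow hd))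
  · exact h11 ((Nat.prime_dvd_prime_iff_eq hpp (by norm_num)).1 (hpp.dvd_of_dvd_pow hd))
  all_goals
    rw [(Nat.prime_dvd_prime_iff_eq hpp (by norm_num)).1 hd] at hd3
    norm_num at hd3

end Cfsg.Agent.H567.MN
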